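import Groth.Agent.KFlatLib.Scheme.CohD
import Groth.Agent.KFlatLib.Scheme.RHomBounded
import Groth.Agent.PushAmp.RSheafHomExists

/-!
# `RSheafHom` into bounded complexes of injectives, from unbounded complexes
-/

set_option autoImplicit false
set_option linter.style.haveILetI false
set_option backward.isDefEq.respectTransparency false
set_option backward.isDefEq.respectTransparency.types false

universe u

open CategoryTheory CategoryTheory.Limits CategoryTheory.Pretriangulated AlgebraicGeometry

attribute [local instance] HasDerivedCategory.standard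

noncomputable section

namespace Groth.Agent.RHomCoh

open Groth.Agent.KFlatLib

variable {X : Scheme.{u}}

/-- High degree cohomology of `iHom` of complexes bounded below and above vanishes. -/
theorem isZero_homology_iHom_GE (C J : CochainComplex X.Modules ℤ) (c b : ℤ) [C.IsStrictlyGE c]
    [J.IsStrictlyLE b] (k : ℤ) (hk : b < k + c) : IsZero (((iHom C).obj J).homology k) := by
  let A := (iHom C).obj J
  have hA : IsZero (A.cycles k) := by
    let g : (HomologicalComplex.single X.Modules (ComplexShape.up ℤ) k).obj (A.cycles k) ⟶ A :=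
      HomologicalComplex.mkHomFromSingle (A.iCycles k) (fun i _ => A.iCycles_d k i)
    have hg : g = 0 := by
      refine ((iHomAdj C).homEquiv _ _).symm.injective
        (HomologicalComplex.hom_ext _ _ fun n => ?_)
      by_cases hn : b < n
      · exact (J.isZero_of_isStrictlyLE b n hn).eq_of_tgt _ _
      · refine HomologicalComplex.mapBifunctor.hom_ext (fun p q h => ?_)
        change p + q = n at h
        refine IsZero.eq_of_src ?_ _ _
        by_cases hp : p = k
        · exact Functor.map_isZero _ (C.isZero_of_isStrictlyGE c q (by omega))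
        · exact Functor.map_isZero ((DCoh.tensorBi (X := X)).flip.obj (C.X q))
            (HomologicalComplex.isZero_single_obj_X _ _ _ _ hp)
    have h := congrArg (fun φ : _ ⟶ A => φ.f k) hg
    simp only [g, HomologicalComplex.mkHomFromSingle_f, HomologicalComplex.zero_f] at h
    rw [IsZero.iff_id_eq_zero, ← cancel_mono (A.iCycles k), Category.id_comp, zero_comp,
      ← cancel_epi (HomologicalComplex.singleObjXSelf (ComplexShape.up ℤ) k (A.cycles k)).hom,
      comp_zero]
    exact h
  exact IsZero.of_epi (A.homologyπ k) hA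

variable (J : CochainComplex X.Modules ℤ) [J.IsKInjective] [∀ n, Injective (J.X n)]

/-- The same for a complex with cohomology bounded below. -/
theorem isZero_homology_iHom_of_isGE (C : CochainComplex X.Modules ℤ) (c b : ℤ) [C.IsGE c]
    [J.IsStrictlyLE b] (k : ℤ) (hk : b < k + c) : IsZero (((iHom C).obj J).homology k) := by
  haveI : QuasiIso (C.πTruncGE c) := (C.quasiIso_πTruncGE_iff c).2 inferInstance
  haveI := quasiIso_iHomMap (C.πTruncGE c) J
  exact (isZero_homology_iHom_GE (C.truncGE c) J c b k hk).of_iso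
    (asIso (HomologicalComplex.homologyMap ((iHomMap (C.πTruncGE c)).app J) k)).symm

/-- In a given degree only a truncation of the source matters. -/
theorem nonempty_homology_iHom_trunc (L : CochainComplex X.Modules ℤ) (b q : ℤ) [J.IsStrictlyLE b]
    (i : ℤ) (hi : b < i + q) :
    Nonempty (((iHom L).obj J).homology i ≅ ((iHom ((L.truncLE q)⟦(1 : ℤ)⟧)).obj J).homology (i + 1)) := by
  let φ := L.ιTruncLE q
  let C := CochainComplex.mappingCone φ
  haveI : C.IsGE q := by
    rw [CochainComplex.isGE_iff]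
    intro k hk
    let T : Triangle (DCoh.D X) := DerivedCategory.Q.mapTriangle.obj (CochainComplex.mappingCone.triangle φ)
    have hT : T ∈ distinguishedTriangles := (DerivedCategory.mem_distTriang_iff T).2 ⟨_, _, φ, ⟨Iso.refl _⟩⟩
    let H := DerivedCategory.homologyFunctor X.Modules
    have hiso : ∀ m : ℤ, m ≤ q → IsIso ((H m).map T.mor₁) := fun m hm => by
      haveI := L.quasiIsoAt_ιTruncLE q m hm
      exact (NatIso.isIso_map_iff (DerivedCategory.homologyFunctorFactors X.Modules m) φ).2
        ((quasiIsoAt_iff_isIso_homologyMap φ m).1 inferInstance)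
    haveI := hiso k hk.le
    haveI := hiso (k + 1) (by omega)
    refine (C.exactAt_iff_isZero_homology k).2 (IsZero.of_iso ?_
      ((DerivedCategory.homologyFunctorFactors X.Modules k).app C).symm)
    exact (DerivedCategory.HomologySequence.exact₃ T hT k (k + 1) rfl).isZero_X₂
      ((DerivedCategory.HomologySequence.epi_homologyMap_mor₁_iff T hT k).1 inferInstance)
      ((DerivedCategory.HomologySequence.mono_homologyMap_mor₁_iff T hT k (k + 1) rfl).1 inferInstance)
  obtain ⟨hw, hse⟩ := Inner.innerHom_shortExact (DCoh.tensorBi (X := X)) (coneSeq φ)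
    (fun n => ⟨coneSeqSplitting φ n⟩) J
  haveI := hse.isIso_δ i (i + 1) rfl (isZero_homology_iHom_of_isGE J C q b i hi)
    (isZero_homology_iHom_of_isGE J C q b (i + 1) (by omega))
  exact ⟨asIso (hse.δ i (i + 1) rfl)⟩

omit [J.IsKInjective] [∀ n, Injective (J.X n)] in
/-- `RSheafHom` from pseudo-coherent to bounded below coherent is coherent. -/
theorem isCoh_HD_RSheafHom_of_pc [IsLocallyNoetherian X] (K : CochainComplex X.Modules ℤ) [DCoh.HasLTensorCx K]
    [DCoh.HasRSheafHom K] (L : DCoh.D X) (hL : DCoh.IsCohD L) (a : ℤ) [L.IsGE a] (i : ℤ)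
    (hK : DCoh.IsPseudoCoherentD (a - i - 1) (DCoh.toD X K)) :
    Coh.IsCoh (DCoh.HD ((DCoh.RSheafHom K).obj L) i) := by
  refine isCoh_of_local fun x => ?_
  obtain ⟨U, j, hj, hx, h⟩ := exists_local_model K L a i hK x
  haveI : IsLocallyNoetherian U := isLocallyNoetherian_of_isOpenImmersion j
  haveI : (DCoh.IsCohD (X := U)).IsClosedUnderIsomorphisms := ⟨isCohD_of_iso⟩
  obtain ⟨Z, hZ, ⟨e⟩⟩ := h DCoh.IsCohD (fun C hC i => isCoh_of_isZero (Functor.map_isZero _ hC))
    (fun T hT h₁ h₃ => isCohD_obj₂ hT h₁ h₃) fun n => isCohD_shift (isCohD_rho j hL) n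
  exact ⟨U, j, hj, hx, isCoh_of_iso (e ≪≫ restrictHDIso j _ i) (hZ (i + 1))⟩

/-- `RSheafHom` from coherent cohomology into a bounded complex of injectives. -/
theorem isCoh_HD_RSheafHom [IsLocallyNoetherian X] (a b : ℤ) [J.IsStrictlyGE a] [J.IsStrictlyLE b]
    (hJ : DCoh.IsCohD (DCoh.toD X J)) (L : CochainComplex X.Modules ℤ)
    (hL : DCoh.IsCohD (DCoh.toD X L)) [DCoh.HasLTensorCx L] [DCoh.HasRSheafHom L] (i : ℤ) :
    Coh.IsCoh (DCoh.HD ((DCoh.RSheafHom L).obj (DCoh.toD X J)) i) := by
  let q := b - i + 1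
  let T := L.truncLE q
  let K := T⟦(1 : ℤ)⟧
  haveI := hasLTensorCx K
  haveI := PushAmp.hasRSheafHom K
  obtain ⟨e⟩ := nonempty_RSheafHom_iso L J
  obtain ⟨e'⟩ := nonempty_RSheafHom_iso K J
  obtain ⟨t⟩ := nonempty_homology_iHom_trunc J L b q i (by omega)
  let eK : DCoh.HD ((DCoh.RSheafHom L).obj (DCoh.toD X J)) i ≅
      DCoh.HD ((DCoh.RSheafHom K).obj (DCoh.toD X J)) (i + 1) :=
    (DerivedCategory.homologyFunctor X.Modules i).mapIso e ≪≫
      (DerivedCategory.homologyFunctorFactors X.Modules i).app _ ≪≫ t ≪≫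
      ((DerivedCategory.homologyFunctorFactors X.Modules (i + 1)).app _).symm ≪≫
      (DerivedCategory.homologyFunctor X.Modules (i + 1)).mapIso e'.symm
  have hz : ∀ k, q < k → IsZero (DCoh.HD (DCoh.toD X T) k) := fun k hk =>
    (((HomologicalComplex.exactAt_iff_isZero_homology T k).1 (T.exactAt_of_isLE q k hk)).of_iso
      ((DerivedCategory.homologyFunctorFactors X.Modules k).app T))
  have hT : DCoh.IsCohD (DCoh.toD X T) := fun k => by
    rcases le_or_gt k q with hk | hk
    · haveI := L.quasiIsoAt_ιTruncLE q k hk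
      haveI : IsIso (HomologicalComplex.homologyMap (L.ιTruncLE q) k) :=
        (quasiIsoAt_iff_isIso_homologyMap _ k).1 inferInstance
      exact isCoh_of_iso ((DerivedCategory.homologyFunctorFactors X.Modules k).app L ≪≫
        (asIso (HomologicalComplex.homologyMap (L.ιTruncLE q) k)).symm ≪≫
        ((DerivedCategory.homologyFunctorFactors X.Modules k).app T).symm) (hL k)
    · exact isCoh_of_isZero (hz k hk)
  let s : DCoh.toD X K ≅ (DCoh.toD X T)⟦(1 : ℤ)⟧ := (DerivedCategory.Q.commShiftIso (1 : ℤ)).app T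
  have hK : DCoh.IsCohD (DCoh.toD X K) := isCohD_of_iso s.symm (isCohD_shift hT 1)
  have hKb : ∀ k, q - 1 < k → IsZero (DCoh.HD (DCoh.toD X K) k) := fun k hk =>
    (hz (1 + k) (by omega)).of_iso ((DerivedCategory.homologyFunctor X.Modules k).mapIso s ≪≫
      ((DerivedCategory.homologyFunctor X.Modules 0).shiftIso 1 k (1 + k) rfl).app _)
  haveI : (DCoh.toD X J).IsGE a := (DerivedCategory.isGE_Q_obj_iff J a).2 inferInstance
  exact isCoh_of_iso eK.symm (isCoh_HD_RSheafHom_of_pc K (DCoh.toD X J) hJ a (i + 1)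
    ((isPseudoCoherentD_iff _ _).2 (locPC_of_coh (isCohD_isQCohD hK) (fun k _ => hK k) (q - 1) hKb)))

/-- Cohomology bounded below gives `RSheafHom` bounded above. -/
theorem isZero_HD_RSheafHom_of_isGE (b : ℤ) [J.IsStrictlyLE b] (L : CochainComplex X.Modules ℤ) (c : ℤ) [L.IsGE c]
    [DCoh.HasLTensorCx L] [DCoh.HasRSheafHom L] (i : ℤ) (hi : b < i + c) :
    IsZero (DCoh.HD ((DCoh.RSheafHom L).obj (DCoh.toD X J)) i) := by
  obtain ⟨e⟩ := nonempty_RSheafHom_iso L J
  exact (isZero_homology_iHom_of_isGE J L c b i hi).of_iso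
    ((DerivedCategory.homologyFunctor X.Modules i).mapIso e ≪≫
      (DerivedCategory.homologyFunctorFactors X.Modules i).app _)

end Groth.Agent.RHomCoh
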